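import Cfsg.Agent.Lib.Helper93.J3Perfect
import Cfsg.Agent.Lib.Helper57.TCW.Main

/-!
# Elements of `3·J₃` given by packed matrices: straight-line programs, words, the action on vectors
-/

set_option autoImplicit false

namespace Cfsg.Agent.Lib.Helper57.J3Mult

open Cfsg.Spor Cfsg.Agent.Lib.Helper93.J3 Cfsg.Agent.Lib.Helper57.TCW

section

variable {F : Type*} [Field F] [CharP F 2] (ω : F) (hω : ω ^ 2 + ω + 1 = 0)

/-- the element `x` of `3·J₃` has the packed matrix `m` -/
def Realizes (x : ↥(threeJ3 F ω)) (m : PM) : Prop :=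
  ((x : GL F9 F) : Matrix F9 F9 F) = decM ω m

omit [CharP F 2] in
theorem realizes_one : Realizes ω (1 : ↥(threeJ3 F ω)) pmI := by
  unfold Realizes
  rw [decM_pmI]
  rfl

include hω

theorem realizes_mul {x y : ↥(threeJ3 F ω)} {m m' : PM} (hx : Realizes ω x m)
    (hy : Realizes ω y m') : Realizes ω (x * y) (mmul m m') := by
  unfold Realizes at *
  rw [decM_mmul ω hω, ← hx, ← hy]
  rfl

theorem realizes_gam (k : ℕ) (hk : k < 43) : Realizes ω (gam ω hω k hk) (gen k) :=
  gam_val ω hω k hk

theorem realizes_gam_inv (k : ℕ) (hk : k < 43) : Realizes ω (gam ω hω k hk)⁻¹ (genI k) :=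
  gam_inv_val ω hω k hk

omit [CharP F 2] hω in
theorem eq_of_realizes {x y : ↥(threeJ3 F ω)} {m : PM} (hx : Realizes ω x m)
    (hy : Realizes ω y m) : x = y :=
  ext_mat ω (hx.trans hy.symm)

omit [CharP F 2] hω in
theorem eq_one_of_realizes {x : ↥(threeJ3 F ω)} (hx : Realizes ω x pmI) : x = 1 :=
  eq_of_realizes ω hx (realizes_one ω)

theorem realizes_inv {x : ↥(threeJ3 F ω)} {m m' : PM} (hx : Realizes ω x m)
    (h : pmBeq (mmul m m') pmI = true) : Realizes ω x⁻¹ m' := by
  have h1 : decM ω m * decM ω m' = 1 := by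
    rw [← decM_mmul ω hω, pmBeq_eq h, decM_pmI]
  unfold Realizes at *
  have h2 : ((x : GL F9 F) : Matrix F9 F9 F) * (((x⁻¹ : ↥(threeJ3 F ω)) : GL F9 F) :
      Matrix F9 F9 F) = 1 := by
    rw [← Units.val_mul, ← Subgroup.coe_mul, mul_inv_cancel]
    rfl
  rw [hx] at h2
  have h3 : decM ω m' * decM ω m = 1 := mul_eq_one_comm.mp h1
  calc (((x⁻¹ : ↥(threeJ3 F ω)) : GL F9 F) : Matrix F9 F9 F)
      = (decM ω m' * decM ω m) * (((x⁻¹ : ↥(threeJ3 F ω)) : GL F9 F) : Matrix F9 F9 F) := by
        rw [h3, one_mul]
    _ = decM ω m' * (decM ω m * (((x⁻¹ : ↥(threeJ3 F ω)) : GL F9 F) : Matrix F9 F9 F)) := by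
        rw [mul_assoc]
    _ = decM ω m' := by rw [h2, mul_one]

theorem ne_one_of_realizes {x : ↥(threeJ3 F ω)} {m : PM} (hx : Realizes ω x m) (hs : m.Small)
    (h : pmBeq m pmI = false) : x ≠ 1 := by
  intro hx1
  rw [hx1] at hx
  have h1 : decM ω m = decM ω pmI := hx.symm.trans (realizes_one ω)
  have hsI : pmI.Small := by
    unfold PM.Small pmI
    norm_num
  have h2 := decM_injective ω hω m pmI hs hsI h1
  rw [h2] at h
  have : pmBeq pmI pmI = true := by decide
  rw [this] at h
  cases h

end

/-! ### Straight-line programs -/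

/-- a step of a straight-line program: a generator, an inverse generator, a product of two
earlier entries -/
inductive Step : Type
  | g (k : ℕ)
  | i (k : ℕ)
  | m (a b : ℕ)

/-- the step is well-formed -/
def Step.ok : Step → Bool
  | Step.g k => Nat.blt k 43
  | Step.i k => Nat.blt k 43
  | Step.m _ _ => true

/-- the packed matrix of a step -/
def stepPM (acc : List PM) : Step → PM
  | Step.g k => gen k
  | Step.i k => genI k
  | Step.m a b => mmul (acc.getD a pmI) (acc.getD b pmI)

/-- run a straight-line program, appending the new entries -/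
def slpRun : List Step → List PM → List PM
  | [], acc => acc
  | s :: rest, acc => slpRun rest (acc ++ [stepPM acc s])

section

variable {F : Type*} [Field F] [CharP F 2] (ω : F) (hω : ω ^ 2 + ω + 1 = 0)
include hω

theorem slpRun_realized (prog : List Step) (hok : ∀ s ∈ prog, s.ok = true) :
    ∀ acc : List PM, (∀ m ∈ acc, ∃ x : ↥(threeJ3 F ω), Realizes ω x m) →
      ∀ m ∈ slpRun prog acc, ∃ x : ↥(threeJ3 F ω), Realizes ω x m := by
  induction prog with
  | nil => intro acc h; exact h
  | cons s rest ih =>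
    intro acc hacc
    apply ih (fun s' hs' => hok s' (List.mem_cons_of_mem _ hs'))
    intro m hm
    rcases List.mem_append.1 hm with hm | hm
    · exact hacc m hm
    · rw [List.mem_singleton] at hm
      subst hm
      have hget : ∀ a, ∃ x : ↥(threeJ3 F ω), Realizes ω x (acc.getD a pmI) := by
        intro a
        by_cases ha : a < acc.length
        · rw [List.getD_eq_getElem _ _ ha]
          exact hacc _ (List.getElem_mem ha)
        · rw [List.getD_eq_default _ _ (Nat.not_lt.1 ha)]
          exact ⟨1, realizes_one ω⟩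
      have hs := hok s List.mem_cons_self
      cases s with
      | g k =>
        have hk : k < 43 := Nat.blt_eq.mp hs
        exact ⟨_, realizes_gam ω hω k hk⟩
      | i k =>
        have hk : k < 43 := Nat.blt_eq.mp hs
        exact ⟨_, realizes_gam_inv ω hω k hk⟩
      | m a b =>
        obtain ⟨x, hx⟩ := hget a
        obtain ⟨y, hy⟩ := hget b
        exact ⟨x * y, realizes_mul ω hω hx hy⟩

/-- an entry of the result of a straight-line program is realized -/
theorem slp_realized (prog : List Step) (hok : ∀ s ∈ prog, s.ok = true) (j : ℕ) :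
    ∃ x : ↥(threeJ3 F ω), Realizes ω x ((slpRun prog []).getD j pmI) := by
  by_cases hj : j < (slpRun prog []).length
  · rw [List.getD_eq_getElem _ _ hj]
    exact slpRun_realized ω hω prog hok [] (fun m hm => by cases hm) _ (List.getElem_mem hj)
  · rw [List.getD_eq_default _ _ (Nat.not_lt.1 hj)]
    exact ⟨1, realizes_one ω⟩

end

/-! ### Words in two elements -/

/-- the packed matrix of a word, given the packed matrices of the four letters -/
def wordPM (P : L4 → PM) : List L4 → PM
  | [] => pmI
  | x :: w => mmul (P x) (wordPM P w)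

section

variable {F : Type*} [Field F] [CharP F 2] (ω : F) (hω : ω ^ 2 + ω + 1 = 0)
include hω

theorem realizes_wordVal (f : Fin 2 → ↥(threeJ3 F ω)) (P : L4 → PM)
    (hP : ∀ x, Realizes ω (lval f x) (P x)) (w : List L4) :
    Realizes ω (wordVal f w) (wordPM P w) := by
  induction w with
  | nil => exact realizes_one ω
  | cons x w ih =>
    rw [wordVal_cons]
    exact realizes_mul ω hω (hP x) ih

/-- the four letters are realized, from the two generators and packed inverses -/
theorem realizes_letters (f : Fin 2 → ↥(threeJ3 F ω)) (P : L4 → PM)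
    (h0 : Realizes ω (f 0) (P L4.a)) (h1 : Realizes ω (f 1) (P L4.b))
    (hi0 : pmBeq (mmul (P L4.a) (P L4.ai)) pmI = true)
    (hi1 : pmBeq (mmul (P L4.b) (P L4.bi)) pmI = true) (x : L4) :
    Realizes ω (lval f x) (P x) := by
  cases x
  · exact h0
  · exact realizes_inv ω hω h0 hi0
  · exact h1
  · exact realizes_inv ω hω h1 hi1

theorem wordVal_eq_one (f : Fin 2 → ↥(threeJ3 F ω)) (P : L4 → PM)
    (hP : ∀ x, Realizes ω (lval f x) (P x)) (w : List L4)
    (h : pmBeq (wordPM P w) pmI = true) : wordVal f w = 1 := by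
  apply eq_one_of_realizes ω
  have := realizes_wordVal ω hω f P hP w
  rwa [pmBeq_eq h] at this

end

/-! ### The action on vectors -/

section

variable {F : Type*} [Field F] (ω : F)

/-- the action of `3·J₃` on the vectors of the 9-dimensional module -/
@[reducible] noncomputable def vecAction : MulAction ↥(threeJ3 F ω) (F9 → F) where
  smul g v := Matrix.mulVec ((g : GL F9 F) : Matrix F9 F9 F) v
  one_smul v := by
    show Matrix.mulVec (((1 : ↥(threeJ3 F ω)) : GL F9 F) : Matrix F9 F9 F) v = v
    simp
  mul_smul g h v := by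
    show Matrix.mulVec (((g * h : ↥(threeJ3 F ω)) : GL F9 F) : Matrix F9 F9 F) v =
      Matrix.mulVec ((g : GL F9 F) : Matrix F9 F9 F)
        (Matrix.mulVec ((h : GL F9 F) : Matrix F9 F9 F) v)
    rw [Matrix.mulVec_mulVec]
    rfl

end

end Cfsg.Agent.Lib.Helper57.J3Mult
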