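import Mathlib
import Cfsg.Prelude.Def_KGroupFacts

/-!
# Lifting involutions to a central extension with kernel of exponent two

If all involutions of `G` are conjugate and `G` contains an elementary abelian subgroup of order
eight, then in every central extension of `G` with kernel of exponent two, every lift of an
involution is an involution.
-/

set_option autoImplicit false

namespace Cfsg.Agent.Lib.Helper57.J3Mult

section abstract

variable {Γ : Type*} [Group Γ]

/-- The quadratic-form argument on an elementary abelian group of order eight. -/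
theorem kappa_eq_one (x y z κ : Γ) (hc : ∀ g : Γ, g * κ = κ * g) (hκ : κ * κ = 1)
    (hx : x * x = κ) (hy : y * y = κ) (hz : z * z = κ)
    (hxy : (x * y) * (x * y) = κ) (hxz : (x * z) * (x * z) = κ)
    (hyz : (y * z) * (y * z) = κ) (hxyz : (x * (y * z)) * (x * (y * z)) = κ) : κ = 1 := by
  -- `y x = x y κ`
  have swap : ∀ w : Γ, w * w = κ → (x * w) * (x * w) = κ → w * x = x * w * κ := by
    intro w hw hxw
    -- x w x w = κ, so (x x) w x w = x κ, so κ (w x w) = κ x
    have h1 : κ * (w * x * w) = κ * x := by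
      calc κ * (w * x * w) = (x * x) * (w * x * w) := by rw [hx]
        _ = x * ((x * w) * (x * w)) := by group
        _ = x * κ := by rw [hxw]
        _ = κ * x := hc x
    have h2 : w * x * w = x := mul_left_cancel h1
    -- w x = x w⁻¹ = x w κ
    have h3 : w * x * κ = x * w := by
      calc w * x * κ = w * x * (w * w) := by rw [hw]
        _ = (w * x * w) * w := by group
        _ = x * w := by rw [h2]
    calc w * x = w * x * (κ * κ) := by rw [hκ, mul_one]
      _ = (w * x * κ) * κ := by group
      _ = x * w * κ := by rw [h3]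
  have hyx := swap y hy hxy
  have hzx := swap z hz hxz
  have hcomm : (y * z) * x = x * (y * z) := by
    calc (y * z) * x = y * (z * x) := by group
      _ = y * (x * z * κ) := by rw [hzx]
      _ = (y * x) * z * κ := by group
      _ = (x * y * κ) * z * κ := by rw [hyx]
      _ = x * y * (κ * z) * κ := by group
      _ = x * y * (z * κ) * κ := by rw [hc z]
      _ = x * (y * z) * (κ * κ) := by group
      _ = x * (y * z) := by rw [hκ, mul_one]
  have h4 : (x * (y * z)) * (x * (y * z)) = κ * κ := by
    calc (x * (y * z)) * (x * (y * z)) = x * ((y * z) * x) * (y * z) := by group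
      _ = x * (x * (y * z)) * (y * z) := by rw [hcomm]
      _ = (x * x) * ((y * z) * (y * z)) := by group
      _ = κ * κ := by rw [hx, hyz]
  rw [hxyz, hκ] at h4
  exact h4

end abstract

section lifts

variable {Γ : Type*} {G : Type*} [Group Γ] [Group G] (σ : Γ →* G)

/-- two lifts of the same element have the same square -/
theorem sq_eq_of_map_eq (hc : σ.ker ≤ Subgroup.center Γ) (hexp : ∀ k ∈ σ.ker, k ^ 2 = 1)
    (x y : Γ) (h : σ x = σ y) : x * x = y * y := by
  have hk : x⁻¹ * y ∈ σ.ker := by
    rw [MonoidHom.mem_ker, map_mul, map_inv, h, inv_mul_cancel]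
  have hkc := Subgroup.mem_center_iff.1 (hc hk)
  have hk2 : (x⁻¹ * y) * (x⁻¹ * y) = 1 := by
    have := hexp _ hk
    rwa [pow_two] at this
  have hy : y = x * (x⁻¹ * y) := by group
  calc x * x = x * x * ((x⁻¹ * y) * (x⁻¹ * y)) := by rw [hk2, mul_one]
    _ = x * (x * (x⁻¹ * y)) * (x⁻¹ * y) := by group
    _ = x * ((x⁻¹ * y) * x) * (x⁻¹ * y) := by rw [hkc x]
    _ = (x * (x⁻¹ * y)) * (x * (x⁻¹ * y)) := by group
    _ = y * y := by rw [← hy]

/-- lifts of conjugate elements whose squares are trivial have the same square -/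
theorem sq_eq_of_isConj (hs : Function.Surjective σ) (hc : σ.ker ≤ Subgroup.center Γ)
    (hexp : ∀ k ∈ σ.ker, k ^ 2 = 1) (x y : Γ) (hx : σ x * σ x = 1) (h : IsConj (σ x) (σ y)) :
    x * x = y * y := by
  obtain ⟨g, hg⟩ := isConj_iff.1 h
  obtain ⟨g', rfl⟩ := hs g
  have h1 : σ (g' * x * g'⁻¹) = σ y := by
    rw [map_mul, map_mul, map_inv]; exact hg
  have h2 := sq_eq_of_map_eq σ hc hexp _ _ h1
  have hxk : x * x ∈ σ.ker := by rw [MonoidHom.mem_ker, map_mul]; exact hx
  have hxc := Subgroup.mem_center_iff.1 (hc hxk)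
  rw [← h2]
  calc x * x = (x * x) * (g' * g'⁻¹) := by group
    _ = ((x * x) * g') * g'⁻¹ := by group
    _ = (g' * (x * x)) * g'⁻¹ := by rw [hxc g']
    _ = g' * x * g'⁻¹ * (g' * x * g'⁻¹) := by group

/-- **Lifts of involutions are involutions.** -/
theorem sq_eq_one_of_lift (hs : Function.Surjective σ) (hc : σ.ker ≤ Subgroup.center Γ)
    (hexp : ∀ k ∈ σ.ker, k ^ 2 = 1)
    (hconj : ∀ a b : G, orderOf a = 2 → orderOf b = 2 → IsConj a b)
    (s t u : G) (h1 : orderOf s = 2) (h2 : orderOf t = 2) (h3 : orderOf u = 2)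
    (h12 : orderOf (s * t) = 2) (h13 : orderOf (s * u) = 2) (h23 : orderOf (t * u) = 2)
    (h123 : orderOf (s * (t * u)) = 2) (w : Γ) (hw : σ w * σ w = 1) : w * w = 1 := by
  obtain ⟨x, rfl⟩ := hs s
  obtain ⟨y, rfl⟩ := hs t
  obtain ⟨z, rfl⟩ := hs u
  have sq1 : ∀ a : G, orderOf a = 2 → a * a = 1 := by
    intro a ha
    have := pow_orderOf_eq_one a
    rwa [ha, pow_two] at this
  have key : ∀ v : Γ, orderOf (σ v) = 2 → v * v = x * x := by
    intro v hv
    exact (sq_eq_of_isConj σ hs hc hexp x v (sq1 _ h1) (hconj _ _ h1 hv)).symm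
  set κ := x * x with hκdef
  have hκk : κ ∈ σ.ker := by rw [MonoidHom.mem_ker, map_mul]; exact sq1 _ h1
  have hκc : ∀ g : Γ, g * κ = κ * g := Subgroup.mem_center_iff.1 (hc hκk)
  have hκ2 : κ * κ = 1 := by
    have := hexp _ hκk
    rwa [pow_two] at this
  have hκ1 : κ = 1 := by
    refine kappa_eq_one x y z κ hκc hκ2 rfl (key y h2) (key z h3) ?_ ?_ ?_ ?_
    · exact key (x * y) (by rw [map_mul]; exact h12)
    · exact key (x * z) (by rw [map_mul]; exact h13)
    · exact key (y * z) (by rw [map_mul]; exact h23)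
    · exact key (x * (y * z)) (by rw [map_mul, map_mul]; exact h123)
  by_cases hw1 : σ w = 1
  · have := hexp w (MonoidHom.mem_ker.2 hw1)
    rwa [pow_two] at this
  · have hord : orderOf (σ w) = 2 := by
      apply orderOf_eq_prime
      · rw [pow_two]; exact hw
      · exact hw1
    rw [key w hord, hκ1]

end lifts

end Cfsg.Agent.Lib.Helper57.J3Mult
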