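import Cfsg.Agent.Lib.Helper57.J3Mult.Elts

/-!
# A two-generator presented group inside `3·J₃`: from packed data to an injective homomorphism
-/

set_option autoImplicit false

namespace Cfsg.Agent.Lib.Helper57.J3Mult

open Cfsg.Spor Cfsg.Agent.Lib.Helper93.J3 Cfsg.Agent.Lib.Helper57.TCW
open Cfsg.Agent.Lib.Helper28.TC

/-- packed data: a straight-line program for the two generators, the packed matrices of the four
letters, a regular orbit of vectors indexed by the cosets, and a sorting of it -/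
structure MatData where
  prog : List Step
  i1 : ℕ
  i2 : ℕ
  P : L4 → PM
  vecT : ℕ → ℕ
  ordT : ℕ → ℕ
  posT : ℕ → ℕ

namespace MatData

variable (M : MatData) (D : Data)

/-- row check of the vector table -/
noncomputable def vecP (i : ℕ) : Bool :=
  band (nlt (M.vecT i) 262144)
    (band (Nat.beq ((M.P L4.a).mv (M.vecT i)) (M.vecT (D.tf L4.a i)))
      (band (Nat.beq ((M.P L4.b).mv (M.vecT i)) (M.vecT (D.tf L4.b i)))
        (band (Bool.rec true (nlt (M.vecT (M.ordT i)) (M.vecT (M.ordT (Nat.succ i))))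
            (nlt (Nat.succ i) D.n))
          (band (nlt (M.posT i) D.n) (Nat.beq (M.ordT (M.posT i)) i)))))

/-- the static conditions -/
structure Valid : Prop where
  prog_ok : ∀ s ∈ M.prog, s.ok = true
  out1 : pmBeq ((slpRun M.prog []).getD M.i1 pmI) (M.P L4.a) = true
  out2 : pmBeq ((slpRun M.prog []).getD M.i2 pmI) (M.P L4.b) = true
  inv1 : pmBeq (mmul (M.P L4.a) (M.P L4.ai)) pmI = true
  inv2 : pmBeq (mmul (M.P L4.b) (M.P L4.bi)) pmI = true
  rels : ∀ w ∈ D.relW, pmBeq (wordPM M.P w) pmI = true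
  vecP_all : ∀ i, i < D.n → M.vecP D i = true

variable {M D}

theorem vecP_spec (hM : M.Valid D) (i : ℕ) (hi : i < D.n) :
    M.vecT i < 2 ^ 18 ∧ (M.P L4.a).mv (M.vecT i) = M.vecT (D.tf L4.a i) ∧
    (M.P L4.b).mv (M.vecT i) = M.vecT (D.tf L4.b i) ∧
    (i + 1 < D.n → M.vecT (M.ordT i) < M.vecT (M.ordT (i + 1))) ∧
    M.posT i < D.n ∧ M.ordT (M.posT i) = i := by
  have h := hM.vecP_all i hi
  unfold vecP at h
  rw [band_eq_true, band_eq_true, band_eq_true, band_eq_true, band_eq_true] at h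
  obtain ⟨h1, h2, h3, h4, h5, h6⟩ := h
  refine ⟨by have := nlt_eq_true.1 h1; norm_num; exact this, nbeq_eq_true.1 h2,
    nbeq_eq_true.1 h3, ?_, nlt_eq_true.1 h5, nbeq_eq_true.1 h6⟩
  intro hlt
  have : nlt (Nat.succ i) D.n = true := nlt_eq_true.2 hlt
  rw [this] at h4
  exact nlt_eq_true.1 h4

theorem ord_strict (hM : M.Valid D) (k l : ℕ) (hkl : k < l) (hl : l < D.n) :
    M.vecT (M.ordT k) < M.vecT (M.ordT l) := by
  induction l with
  | zero => omega
  | succ l ih =>
    have hstep : M.vecT (M.ordT l) < M.vecT (M.ordT (l + 1)) :=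
      (vecP_spec hM l (by omega)).2.2.2.1 hl
    rcases Nat.lt_succ_iff_lt_or_eq.mp hkl with h | h
    · exact lt_trans (ih h (by omega)) hstep
    · rw [h]; exact hstep

theorem vecT_inj (hM : M.Valid D) (i j : ℕ) (hi : i < D.n) (hj : j < D.n)
    (h : M.vecT i = M.vecT j) : i = j := by
  obtain ⟨_, _, _, _, hpi, hoi⟩ := vecP_spec hM i hi
  obtain ⟨_, _, _, _, hpj, hoj⟩ := vecP_spec hM j hj
  have h' : M.vecT (M.ordT (M.posT i)) = M.vecT (M.ordT (M.posT j)) := by rw [hoi, hoj]; exact h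
  rcases Nat.lt_trichotomy (M.posT i) (M.posT j) with h1 | h1 | h1
  · have := ord_strict hM _ _ h1 hpj
    rw [h'] at this; exact absurd this (lt_irrefl _)
  · rw [← hoi, ← hoj, h1]
  · have := ord_strict hM _ _ h1 hpi
    rw [h'] at this; exact absurd this (lt_irrefl _)

section

variable {F : Type*} [Field F] [CharP F 2] (ω : F) (hω : ω ^ 2 + ω + 1 = 0)
include hω

/-- the two generators exist in `3·J₃` -/
theorem exists_gens (hM : M.Valid D) :
    ∃ f : Fin 2 → ↥(threeJ3 F ω), ∀ x, Realizes ω (lval f x) (M.P x) := by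
  obtain ⟨x1, h1⟩ := slp_realized ω hω M.prog hM.prog_ok M.i1
  obtain ⟨x2, h2⟩ := slp_realized ω hω M.prog hM.prog_ok M.i2
  rw [pmBeq_eq hM.out1] at h1
  rw [pmBeq_eq hM.out2] at h2
  refine ⟨![x1, x2], ?_⟩
  exact realizes_letters ω hω ![x1, x2] M.P h1 h2 hM.inv1 hM.inv2

theorem lift_rel (hM : M.Valid D) (f : Fin 2 → ↥(threeJ3 F ω))
    (hf : ∀ x, Realizes ω (lval f x) (M.P x)) :
    ∀ r ∈ relSet D.relW, FreeGroup.lift f r = 1 := by
  rintro r ⟨w, hw, rfl⟩
  rw [lift_wordF]
  exact wordVal_eq_one ω hω f M.P hf w (hM.rels w hw)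

/-- the homomorphism from the presented group is injective -/
theorem toGroup_injective (hD : D.Valid) (hM : M.Valid D) (f : Fin 2 → ↥(threeJ3 F ω))
    (hf : ∀ x, Realizes ω (lval f x) (M.P x)) :
    Function.Injective (PresentedGroup.toGroup (lift_rel ω hω hM f hf)) := by
  letI := vecAction ω
  refine Data.injective_of_points D hD (PresentedGroup.toGroup (lift_rel ω hω hM f hf))
    (fun i => decV ω (M.vecT i)) ?_ ?_
  · intro i j hi hj h
    have h1 := (vecP_spec hM i hi).1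
    have h2 := (vecP_spec hM j hj).1
    exact vecT_inj hM i j hi hj (decV_injective ω hω _ _ h1 h2 h)
  · intro a i hi
    rw [PresentedGroup.toGroup.of]
    show Matrix.mulVec (((f a : ↥(threeJ3 F ω)) : GL F9 F) : Matrix F9 F9 F) (decV ω (M.vecT i)) = _
    obtain ⟨_, ha, hb, _⟩ := vecP_spec hM i hi
    fin_cases a
    · have h0 : Realizes ω (f 0) (M.P L4.a) := hf L4.a
      show Matrix.mulVec (((f 0 : ↥(threeJ3 F ω)) : GL F9 F) : Matrix F9 F9 F) _ = _
      rw [h0, ← decV_mv ω hω, ha]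
      rfl
    · have h1 : Realizes ω (f 1) (M.P L4.b) := hf L4.b
      show Matrix.mulVec (((f 1 : ↥(threeJ3 F ω)) : GL F9 F) : Matrix F9 F9 F) _ = _
      rw [h1, ← decV_mv ω hω, hb]
      rfl

end

end MatData

end Cfsg.Agent.Lib.Helper57.J3Mult
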