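import Cfsg.Agent.Lib.Helper57.J3Mult.C2.MatMain
import Cfsg.Agent.Lib.Helper57.J3Mult.Kappa
import Cfsg.Agent.Lib.Helper7.StemStep
import Cfsg.Agent.Lib.Helper93.J3SchValid
import Cfsg.Agent.Lib.Helper93.J3CenterCard
import Cfsg.Agent.S2135

/-!
# The 2-part of the Schur multiplier of `3·J₃` is trivial

All involutions of `3·J₃` are conjugate and there is an elementary abelian subgroup of order 8, so
lifts of involutions to a central extension with kernel of exponent 2 are involutions.  A subgroup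
`2^{1+4}:A₅` of odd index is generated by two elements of order 5 and is presented by relators
which are fifth powers of the generators or squares of words whose values are involutions; hence
the lifts of order 5 of the generators generate a complement of the kernel.
-/

set_option autoImplicit false

namespace Cfsg.Agent.Lib.Helper57.J3Mult

open Cfsg.Spor Cfsg.Agent.Lib.Helper93.J3 Cfsg.Agent.Lib.Helper57.TCW

universe u

/-! ### The words -/

def c2v1 : List L4 := [L4.a, L4.a, L4.bi, L4.a, L4.b]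
def c2v3 : List L4 := [L4.ai, L4.bi, L4.a, L4.bi, L4.bi]
def c2v4 : List L4 := [L4.ai, L4.ai, L4.b, L4.a, L4.bi, L4.bi]
def c2v6 : List L4 := [L4.a, L4.a, L4.bi, L4.bi, L4.a, L4.bi]

theorem c2_relW : C2.D.relW = [c2v1 ++ c2v1, List.replicate 5 L4.b, c2v3 ++ c2v3, c2v4 ++ c2v4,
    List.replicate 5 L4.a, c2v6 ++ c2v6] := by decide

/-- three commuting involutions -/
def e8s : List L4 := [L4.a, L4.a, L4.bi, L4.a, L4.b]
def e8t : List L4 := [L4.a, L4.b, L4.a, L4.a, L4.bi]
def e8u : List L4 := [L4.a, L4.b, L4.b, L4.ai, L4.b]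

/-- all columns are codes of vectors: Boolean check -/
def smallB (m : PM) : Bool :=
  Nat.blt m.c0 262144 && Nat.blt m.c1 262144 && Nat.blt m.c2 262144 && Nat.blt m.c3 262144 &&
    Nat.blt m.c4 262144 && Nat.blt m.c5 262144 && Nat.blt m.c6 262144 && Nat.blt m.c7 262144 &&
    Nat.blt m.c8 262144

theorem smallB_spec (m : PM) (h : smallB m = true) : m.Small := by
  unfold smallB at h
  simp only [Bool.and_eq_true, Nat.blt_eq] at h
  obtain ⟨⟨⟨⟨⟨⟨⟨⟨h0, h1⟩, h2⟩, h3⟩, h4⟩, h5⟩, h6⟩, h7⟩, h8⟩ := h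
  unfold PM.Small
  norm_num
  exact ⟨h0, h1, h2, h3, h4, h5, h6, h7, h8⟩

/-- the word has an involution as its value: packed check -/
noncomputable def invoChk (w : List L4) : Bool :=
  pmBeq (wordPM C2.M.P (w ++ w)) pmI && !(pmBeq (wordPM C2.M.P w) pmI) &&
    smallB (wordPM C2.M.P w)

theorem e8_chk : (invoChk e8s && invoChk e8t && invoChk e8u && invoChk (e8s ++ e8t) &&
    invoChk (e8s ++ e8u) && invoChk (e8t ++ e8u) && invoChk (e8s ++ (e8t ++ e8u))) = true := by
  decide +kernel

theorem wordVal_replicate {K : Type*} [Group K] (f : Fin 2 → K) (n : ℕ) (x : L4) :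
    wordVal f (List.replicate n x) = (lval f x) ^ n := by
  induction n with
  | zero => simp [wordVal_nil]
  | succ n ih => rw [List.replicate_succ, wordVal_cons, ih, pow_succ']

section main

variable {F : Type u} [Field F] [Fintype F] (hF : Fintype.card F = 4) (ω : F)
  (hω : ω ^ 2 + ω + 1 = 0)
include hF hω

/-- all involutions of `3·J₃` are conjugate -/
theorem involutions_conj (a b : ↥(threeJ3 F ω)) (ha : orderOf a = 2) (hb : orderOf b = 2) :
    IsConj a b := by
  haveI := charP_two_of_card hF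
  have hcard := center_card ω hω hF
  set Z := Subgroup.center ↥(threeJ3 F ω) with hZ
  have hz3 : ∀ z ∈ Z, z ^ 3 = 1 := by
    intro z hz
    have h := pow_card_eq_one' (G := ↥Z) (x := ⟨z, hz⟩)
    rw [hcard] at h
    exact congrArg Subtype.val h
  have sq1 : ∀ c : ↥(threeJ3 F ω), orderOf c = 2 → c ^ 2 = 1 := by
    intro c hc
    have := pow_orderOf_eq_one c
    rwa [hc] at this
  -- images of involutions are involutions
  have himg : ∀ c : ↥(threeJ3 F ω), orderOf c = 2 →
      orderOf (QuotientGroup.mk c : J3 F ω) = 2 := by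
    intro c hc
    apply orderOf_eq_prime
    · rw [← QuotientGroup.mk_pow, sq1 c hc]; rfl
    · intro h
      have hcz : c ∈ Z := (QuotientGroup.eq_one_iff c).1 h
      have h3 := hz3 c hcz
      have h2 := sq1 c hc
      have : c = 1 := by
        calc c = c ^ 3 * (c ^ 2)⁻¹ := by group
          _ = 1 := by rw [h3, h2]; simp
      rw [this, orderOf_one] at hc
      norm_num at hc
  have h := (Cfsg.Agent.S2135.result hF ω hω).1 _ _ (himg a ha) (himg b hb)
  obtain ⟨g, hg⟩ := isConj_iff.1 h
  obtain ⟨g', rfl⟩ := QuotientGroup.mk_surjective g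
  -- g' a g'⁻¹ = b z with z central
  have hmem : b⁻¹ * (g' * a * g'⁻¹) ∈ Z := by
    rw [← QuotientGroup.eq]
    exact hg.symm
  set z := b⁻¹ * (g' * a * g'⁻¹) with hzdef
  have hconj : g' * a * g'⁻¹ = b * z := by rw [hzdef]; group
  have hzc := Subgroup.mem_center_iff.1 hmem
  have h1 : (g' * a * g'⁻¹) ^ 2 = 1 := by
    rw [conj_pow, sq1 a ha]; group
  have h2 : z ^ 2 = 1 := by
    rw [hconj, pow_two] at h1
    have : b * z * (b * z) = b ^ 2 * z ^ 2 := by
      calc b * z * (b * z) = b * (z * b) * z := by group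
        _ = b * (b * z) * z := by rw [hzc b]
        _ = b ^ 2 * z ^ 2 := by rw [pow_two, pow_two]; group
    rw [this, sq1 b hb, one_mul] at h1
    exact h1
  have h3 := hz3 z hmem
  have hz1 : z = 1 := by
    calc z = z ^ 3 * (z ^ 2)⁻¹ := by group
      _ = 1 := by rw [h3, h2]; simp
  rw [hz1, mul_one] at hconj
  exact isConj_iff.2 ⟨g', hconj⟩

/-- kernels of exponent 2 of stem extensions of `3·J₃` are trivial -/
theorem ker_eq_bot_two (Γ : Type u) [Group Γ] [Finite Γ] (σ : Γ →* ↥(threeJ3 F ω))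
    (hσ : Cfsg.IsStemExtension σ) (hexp : ∀ k ∈ σ.ker, k ^ 2 = 1) : σ.ker = ⊥ := by
  haveI := charP_two_of_card hF
  obtain ⟨f, hf⟩ := MatData.exists_gens (M := C2.M) (D := C2.D) ω hω C2.matValid
  have hinj := MatData.toGroup_injective ω hω C2.valid C2.matValid f hf
  have hrelf := MatData.lift_rel ω hω C2.matValid f hf
  set φ := PresentedGroup.toGroup hrelf with hφ
  -- values of relator words
  have hrelw : ∀ w ∈ C2.D.relW, wordVal f w = 1 := by
    intro w hw
    have := hrelf (wordF w) ⟨w, hw, rfl⟩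
    rwa [lift_wordF] at this
  -- involutions from packed checks
  have hinvo : ∀ w : List L4, invoChk w = true → orderOf (wordVal f w) = 2 := by
    intro w hw
    unfold invoChk at hw
    simp only [Bool.and_eq_true, Bool.not_eq_true'] at hw
    obtain ⟨⟨h1, h2⟩, h3'⟩ := hw
    have h3 := smallB_spec _ h3'
    apply orderOf_eq_prime
    · rw [pow_two, ← wordVal_append]
      exact wordVal_eq_one ω hω f C2.M.P hf _ h1
    · exact ne_one_of_realizes ω hω (realizes_wordVal ω hω f C2.M.P hf w) h3 h2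
  have hchk := e8_chk
  simp only [Bool.and_eq_true] at hchk
  obtain ⟨⟨⟨⟨⟨⟨c1, c2⟩, c3⟩, c12⟩, c13⟩, c23⟩, c123⟩ := hchk
  -- lifts of involutions are involutions
  have hlift : ∀ w : Γ, σ w * σ w = 1 → w * w = 1 := by
    refine sq_eq_one_of_lift σ hσ.1 hσ.2.1 hexp (involutions_conj hF ω hω)
      (wordVal f e8s) (wordVal f e8t) (wordVal f e8u) (hinvo _ c1) (hinvo _ c2) (hinvo _ c3)
      ?_ ?_ ?_ ?_
    · rw [← wordVal_append]; exact hinvo _ c12
    · rw [← wordVal_append]; exact hinvo _ c13
    · rw [← wordVal_append]; exact hinvo _ c23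
    · rw [← wordVal_append, ← wordVal_append]; exact hinvo _ c123
  -- the generators have fifth power one
  have hf5 : ∀ i : Fin 2, (f i) ^ 5 = 1 := by
    intro i
    fin_cases i
    · have := hrelw (List.replicate 5 L4.a) (by rw [c2_relW]; simp)
      rwa [wordVal_replicate] at this
    · have := hrelw (List.replicate 5 L4.b) (by rw [c2_relW]; simp)
      rwa [wordVal_replicate] at this
  -- lifts of order five
  have hl : ∀ i : Fin 2, ∃ y : Γ, σ y = f i ∧ y ^ 5 = 1 := by
    intro i
    obtain ⟨l, hl⟩ := hσ.1 (f i)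
    refine ⟨l ^ 6, ?_, ?_⟩
    · rw [map_pow, hl]
      calc (f i) ^ 6 = (f i) ^ 5 * f i := by group
        _ = f i := by rw [hf5 i, one_mul]
    · have hk : l ^ 5 ∈ σ.ker := by
        rw [MonoidHom.mem_ker, map_pow, hl, hf5 i]
      have := hexp _ hk
      calc (l ^ 6) ^ 5 = ((l ^ 5) ^ 2) ^ 3 := by group
        _ = 1 := by rw [this, one_pow]
  choose y hy1 hy5 using hl
  have hσy : ∀ w : List L4, σ (wordVal y w) = wordVal f w := by
    intro w
    rw [map_wordVal]
    have hfun : (fun i => σ (y i)) = f := funext hy1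
    rw [hfun]
  -- the lifts satisfy the relators
  have hsq : ∀ v : List L4, wordVal f (v ++ v) = 1 → wordVal y (v ++ v) = 1 := by
    intro v hv
    rw [wordVal_append] at hv ⊢
    apply hlift
    rw [hσy]; exact hv
  have hrely : ∀ r ∈ relSet C2.D.relW, FreeGroup.lift y r = 1 := by
    rintro r ⟨w, hw, rfl⟩
    rw [lift_wordF]
    have hw' := hw
    rw [c2_relW] at hw'
    simp only [List.mem_cons, List.not_mem_nil, or_false] at hw'
    rcases hw' with rfl | rfl | rfl | rfl | rfl | rfl
    · exact hsq _ (hrelw _ (by rw [c2_relW]; simp))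
    · rw [wordVal_replicate]; exact hy5 1
    · exact hsq _ (hrelw _ (by rw [c2_relW]; simp))
    · exact hsq _ (hrelw _ (by rw [c2_relW]; simp))
    · rw [wordVal_replicate]; exact hy5 0
    · exact hsq _ (hrelw _ (by rw [c2_relW]; simp))
  set ψ := PresentedGroup.toGroup hrely with hψ
  have hcomp : σ.comp ψ = φ := by
    apply PresentedGroup.ext
    intro i
    rw [MonoidHom.comp_apply, hψ, hφ, PresentedGroup.toGroup.of, PresentedGroup.toGroup.of]
    exact hy1 i
  have hcompl : ψ.range ⊓ σ.ker = ⊥ := by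
    rw [Subgroup.eq_bot_iff_forall]
    intro x hx0
    obtain ⟨⟨g, rfl⟩, hx⟩ := Subgroup.mem_inf.1 hx0
    rw [MonoidHom.mem_ker, ← MonoidHom.comp_apply, hcomp] at hx
    have : g = 1 := hinj (by rw [hx, map_one])
    rw [this, map_one]
  have hmap : ψ.range.map σ = φ.range := by
    rw [← hcomp, MonoidHom.range_comp]
  let e : PresentedGroup (relSet C2.D.relW) ≃* ↥φ.range := MonoidHom.ofInjective hinj
  have hcardU : Nat.card ↥φ.range = 1920 := by
    rw [← Nat.card_congr e.toEquiv, Data.card_eq C2.D C2.valid]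
    rfl
  have hcardG := card_threeJ3_eq hF ω hω
  have hidx : φ.range.index = 78489 := by
    have h1 := φ.range.card_mul_index
    rw [hcardU, hcardG] at h1
    omega
  rw [Subgroup.eq_bot_iff_forall]
  intro a ha
  have h1 := Cfsg.Agent.Lib.Helper7.Stem.pow_index_eq_one_of_compl σ hσ ψ.range hcompl a ha
  rw [hmap, hidx] at h1
  have h2 := hexp a ha
  have h3 : orderOf a ∣ Nat.gcd 78489 2 :=
    Nat.dvd_gcd (orderOf_dvd_of_pow_eq_one h1) (orderOf_dvd_of_pow_eq_one h2)
  have h4 : Nat.gcd 78489 2 = 1 := by norm_num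
  rw [h4, Nat.dvd_one, orderOf_eq_one_iff] at h3
  exact h3

end main

end Cfsg.Agent.Lib.Helper57.J3Mult
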