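import Cfsg.Agent.Lib.Helper57.J3Mult.U4.MatMain
import Cfsg.Agent.Lib.Helper57.Balanced
import Cfsg.Agent.Lib.Helper53.SchurTransport
import Cfsg.Agent.Lib.Helper92.StemSub
import Cfsg.Agent.Lib.Helper93.J3SchValid

/-!
# The 3-part of the Schur multiplier of `3·J₃` is trivial

A subgroup of order `2916 = 4 · 3⁶` of `3·J₃` has a balanced presentation, hence trivial
multiplier; its index is prime to `3`.
-/

set_option autoImplicit false

namespace Cfsg.Agent.Lib.Helper57.J3Mult

open Cfsg.Spor Cfsg.Agent.Lib.Helper93.J3 Cfsg.Agent.Lib.Helper57.TCW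

universe u

theorem hcsm_congr {α : Type} {R S : Set (FreeGroup α)} (h : R = S) (n : ℕ)
    (hR : Cfsg.HasCyclicSchurMultiplier (PresentedGroup R) n) :
    Cfsg.HasCyclicSchurMultiplier (PresentedGroup S) n := by
  subst h; exact hR

theorem finite_congr {α : Type} {R S : Set (FreeGroup α)} (h : R = S)
    (hR : Finite (PresentedGroup R)) : Finite (PresentedGroup S) := by
  subst h; exact hR

/-- the first relator of the balanced presentation -/
def u4r1 : List L4 := U4.relW.getD 0 []
/-- the second relator of the balanced presentation -/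
def u4r2 : List L4 := U4.relW.getD 1 []

theorem u4_relW : U4.D.relW = [u4r1, u4r2] := rfl

/-- the presented group of order 2916 has trivial multiplier -/
theorem u4_multiplier :
    Cfsg.HasCyclicSchurMultiplier (PresentedGroup (relSet U4.D.relW)) 1 := by
  have hfin : Finite (PresentedGroup (relSet U4.D.relW)) := Data.finite U4.D U4.valid
  have hset : relSet U4.D.relW = ((relFin u4r1 u4r2 : Finset (FreeGroup (Fin 2))) :
      Set (FreeGroup (Fin 2))) := by
    rw [relFin_coe, u4_relW]
  haveI : Finite (PresentedGroup ((relFin u4r1 u4r2 : Finset (FreeGroup (Fin 2))) :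
      Set (FreeGroup (Fin 2)))) := finite_congr hset hfin
  have h := Cfsg.Agent.Lib.Helper57.Balanced.trivial_multiplier_of_balanced 2
    (relFin u4r1 u4r2) (relFin_card u4r1 u4r2)
  exact hcsm_congr hset.symm 1 h

/-- kernels of exponent 3 of stem extensions of `3·J₃` are trivial -/
theorem ker_eq_bot_three {F : Type u} [Field F] [Fintype F] (hF : Fintype.card F = 4) (ω : F)
    (hω : ω ^ 2 + ω + 1 = 0) (Γ : Type u) [Group Γ] [Finite Γ] (σ : Γ →* ↥(threeJ3 F ω))
    (hσ : Cfsg.IsStemExtension σ) (hexp : ∀ k ∈ σ.ker, k ^ 3 = 1) : σ.ker = ⊥ := by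
  haveI := charP_two_of_card hF
  obtain ⟨f, hf⟩ := MatData.exists_gens (M := U4.M) (D := U4.D) ω hω U4.matValid
  have hinj := MatData.toGroup_injective ω hω U4.valid U4.matValid f hf
  set φ := PresentedGroup.toGroup (MatData.lift_rel ω hω U4.matValid f hf) with hφ
  let e : PresentedGroup (relSet U4.D.relW) ≃* ↥φ.range := MonoidHom.ofInjective hinj
  have hU : Cfsg.HasCyclicSchurMultiplier ↥φ.range 1 :=
    Cfsg.Agent.Lib.Helper53.SchurTransport.hasSchurMultiplier_of_mulEquiv e u4_multiplier
  have hcardU : Nat.card ↥φ.range = 2916 := by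
    rw [← Nat.card_congr e.toEquiv, Data.card_eq U4.D U4.valid]
    rfl
  have hcardG := card_threeJ3_eq hF ω hω
  have hidx : φ.range.index = 51680 := by
    have h1 := φ.range.card_mul_index
    rw [hcardU, hcardG] at h1
    omega
  rw [Subgroup.eq_bot_iff_forall]
  intro a ha
  have h1 := Cfsg.Agent.Lib.Helper92.StemSub.pow_index_eq_one_of_trivial σ hσ φ.range hU a ha
  rw [hidx] at h1
  have h2 := hexp a ha
  have h3 : orderOf a ∣ Nat.gcd 51680 3 :=
    Nat.dvd_gcd (orderOf_dvd_of_pow_eq_one h1) (orderOf_dvd_of_pow_eq_one h2)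
  have h4 : Nat.gcd 51680 3 = 1 := by norm_num
  rw [h4, Nat.dvd_one, orderOf_eq_one_iff] at h3
  exact h3

end Cfsg.Agent.Lib.Helper57.J3Mult
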